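import Groth.Agent.Lib.Sumihiro14.Expand
import Groth.Agent.Lib.ThetaGrp19.Scalar
import Groth.Agent.Lib.PP12.Zero

/-!
# Sections moved by a family of morphisms, restricted to slices
-/

set_option autoImplicit false
set_option linter.style.haveILetI false
set_option linter.unusedSectionVars false
set_option backward.isDefEq.respectTransparency false
set_option backward.isDefEq.respectTransparency.types false
universe u

open CategoryTheory CategoryTheory.Limits MonoidalCategory CartesianMonoidalCategory MonObj AlgebraicGeometry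
open Topology TopologicalSpace TensorProduct

noncomputable section

namespace Groth.Agent.AmpleFix14

open Sumihiro14 (slice sl sl_mres sl_smul sl_pullSec slice_snd vl vlL slice_app_fst slice_app_snd
  span_vl_eq_top mres_injective_of_integral)
open Groth.Agent.Amp (Gen gm)
open Groth.Agent.ModLimH13 (res')
open CubeField (Fn toΓ)
open DiagGL (alg)

variable {k : Type u} [Field k] {G X : Over (Spec (CommRingCat.of k))} {L : X.left.Modules}

/-- The slice of a global section at a point. -/
def slTop (g : 𝟙_ (Over (Spec (CommRingCat.of k))) ⟶ G)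
    (m : Γ((Scheme.Modules.pullback (snd G X).left).obj L, ⊤)) : Γ(L, ⊤) :=
  M1.mres L (fun _ _ => trivial : (⊤ : X.left.Opens) ≤ (slice g).left ⁻¹ᵁ ⊤) (sl g ⊤ m)

variable (F : (G ⊗ X).left ⟶ X.left)
  (θ : (Scheme.Modules.pullback F).obj L ⟶ (Scheme.Modules.pullback (snd G X).left).obj L)

/-- A section moved by a family. -/
def mv (s : Γ(L, ⊤)) : Γ((Scheme.Modules.pullback (snd G X).left).obj L, ⊤) :=
  θ.app ⊤ (res' F L (W := ⊤) (fun _ _ => trivial : (⊤ : (G ⊗ X).left.Opens) ≤ F ⁻¹ᵁ ⊤) s)

variable (g : 𝟙_ (Over (Spec (CommRingCat.of k))) ⟶ G) {f : X.left ⟶ X.left} (e : (slice g).left ≫ F = f)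

/-- The map at a point. -/
def psi : (Scheme.Modules.pullback f).obj L ⟶ L :=
  (ModLimH13.cmp (slice g).left F e).inv.app L ≫ (Scheme.Modules.pullback (slice g).left).map θ ≫
    (ModLimH13.cmp (slice g).left (snd G X).left (slice_snd g)).hom.app L ≫
      (Scheme.Modules.pullbackId X.left).hom.app L

instance [IsIso θ] : IsIso (psi F θ g e) := by
  unfold psi
  infer_instance

theorem psi_app (s : Γ(L, ⊤)) (h : (⊤ : X.left.Opens) ≤ f ⁻¹ᵁ ⊤) :
    (psi F θ g e).app ⊤ (res' f L h s) = slTop g (mv F θ s) := by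
  let σ := (slice (X := X) g).left
  let idI := Scheme.Modules.pullbackId X.left
  let e₁ : (⊤ : (G ⊗ X).left.Opens) ≤ F ⁻¹ᵁ ⊤ := fun _ _ => trivial
  let e₂ : (⊤ : X.left.Opens) ≤ σ ⁻¹ᵁ ⊤ := fun _ _ => trivial
  let c := ModLimH13.cmp σ F e
  have h2 : (c.inv.app L).app ⊤ (res' f L h s) =
      res' σ ((Scheme.Modules.pullback F).obj L) e₂ (res' F L e₁ s) := by
    have h' := ModLimH13.cmp_res' σ F L e e₁ e₂ s
    refine (congrArg (fun v => (c.inv.app L).app ⊤ v) h'.symm).trans ?_
    exact congrArg (fun φ : (Scheme.Modules.pullback σ).obj ((Scheme.Modules.pullback F).obj L) ⟶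
      (Scheme.Modules.pullback σ).obj ((Scheme.Modules.pullback F).obj L) =>
      φ.app ⊤ (res' σ _ e₂ (res' F L e₁ s))) (c.hom_inv_id_app L)
  show ((idI.hom.app L).app ⊤) (((ModLimH13.cmp σ (snd G X).left (slice_snd g)).hom.app L).app ⊤
    (((Scheme.Modules.pullback σ).map θ).app ⊤ ((c.inv.app L).app ⊤ (res' f L h s)))) = _
  rw [h2, ModLimH13.map_res', slTop]
  refine Eq.trans ?_ (M1.app_mres (idI.hom.app L) e₂ _)
  rw [ModLimH13.mres_trans]
  rfl

variable [IsAlgClosed k] [IsAffine G.left] [IsReduced G.left] [LocallyOfFiniteType G.hom] [IsIntegral X.left]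
  [IsSeparated X.hom]

/-- The slices of a section on a product are combinations of sections with regular coefficients. -/
theorem exists_expansion (hL : PicF.IsInvertible L) (m : Γ((Scheme.Modules.pullback (snd G X).left).obj L, ⊤)) :
    ∃ (J : Type u) (_ : Fintype J) (b : J → Fn G.hom ⊤) (t : J → Γ(L, ⊤)), LinearIndependent k b ∧
      (∀ g, slTop g m = ∑ j, alg X (vlL g (b j)) • t j) := by
  classical
  obtain ⟨W, e, hηW, -, hW, he⟩ := Amp.exists_isGenerator hL (V := ⊤) (x := genericPoint X.left) trivial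
  let O := CubeField.box (snd G X).left (fst G X).left W ⊤
  let E := M1.mres ((Scheme.Modules.pullback (snd G X).left).obj L) (inf_le_left : O ≤ (snd G X).left ⁻¹ᵁ W)
    (M2.pullSec (snd G X).left L e)
  have hE : Twist.IsGen _ O E := Twist.isGen_of_stalk fun z hz => by
    have h := (Amp.gen_pullSec_iff (snd G X).left hL (y := z) (U := W) hz.1 e).2 (Amp.gen_of_isGenerator he hz.1)
    rw [Amp.Gen, ← Amp.gm_res (inf_le_left : O ≤ _) hz] at h
    exact h
  obtain ⟨f, hf⟩ := (hE O le_rfl).2 (M1.mres _ (le_top : O ≤ ⊤) m)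
  simp only [M1.mres_id] at hf
  have hsq : IsPullback (snd G X).left (fst G X).left X.hom G.hom := (IsPullback.of_hasPullback G.hom X.hom).flip
  obtain ⟨z, rfl⟩ := (CubeField.bijective_tens X.hom G.hom (snd G X).left (fst G X).left hsq hW
    (isAffineOpen_top G.left)).2 f
  let ℬ := Module.Free.chooseBasis k (Fn G.hom ⊤)
  obtain ⟨C, rfl⟩ := TensorProduct.eq_repr_basis_left ℬ z
  let J := C.support
  let b : J → Fn G.hom ⊤ := fun j => ℬ j.1
  have hb : LinearIndependent k b := ℬ.linearIndependent.comp _ Subtype.val_injective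
  let al : J → Γ(X.left, W) := fun j => toΓ (C j.1)
  have hres : ∀ g, M1.mres L (le_top : W ≤ ⊤) (slTop g m) =
      ∑ j : J, (M1.ores (le_top : W ≤ ⊤) (alg X (vlL g (b j))) * al j) • e := by
    intro g
    have hWO : W ≤ (slice g).left ⁻¹ᵁ O := fun y hy => by
      refine ⟨?_, trivial⟩
      show ((slice g).left ≫ (snd G X).left) y ∈ W
      rw [slice_snd]; exact hy
    have h := congrArg (fun t => M1.mres L hWO (sl g O t)) hf
    simp only [sl_smul, sl_mres, M1.mres_smul, M1.mres_mres] at h
    rw [slTop, M1.mres_mres]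
    refine Eq.trans h.symm ?_
    have hE' : M1.mres L hWO (sl g O E) = e := by
      rw [sl_mres, sl_pullSec, M1.mres_mres, M1.mres_mres, M1.mres_id]
    rw [hE', ← Finset.sum_smul]
    congr 1
    rw [Finsupp.sum, map_sum, map_sum, map_sum, ← Finset.sum_coe_sort]
    refine Finset.sum_congr rfl fun j _ => ?_
    rw [CubeField.tens_tmul, CubeField.mulBox, map_mul, map_mul]
    have hmap : ∀ {U : (G ⊗ X).left.Opens} (h : O ≤ U) (x : Γ((G ⊗ X).left, U)),
        (slice g).left.appLE O W hWO ((G ⊗ X).left.presheaf.map (homOfLE h).op x) =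
          (slice g).left.appLE U W (hWO.trans ((slice g).left.preimage_mono h)) x := fun h x => by
      rw [← CommRingCat.comp_apply, Scheme.Hom.map_appLE]
    have happ : ∀ x : Γ((G ⊗ X).left, O), M1.ores hWO ((slice g).left.app O x) = (slice g).left.appLE O W hWO x :=
      fun x => rfl
    simp only [happ]
    erw [hmap, hmap, slice_app_fst, slice_app_snd g _ _ le_rfl]
    refine congrArg₂ (· * ·) rfl ?_
    show X.left.presheaf.map (homOfLE le_rfl).op _ = _
    rw [show (homOfLE (le_refl W)).op = 𝟙 _ from rfl, X.left.presheaf.map_id]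
    rfl
  have hWne : (W : Set X.left).Nonempty := ⟨_, hηW⟩
  have hspan := span_vl_eq_top b hb
  have hsel : ∀ j : J, ∃ c : (𝟙_ (Over (Spec (CommRingCat.of k))) ⟶ G) →₀ k,
      (c.sum fun g r => r • fun j' : J => vlL g (b j')) = Pi.single j 1 := fun j =>
    Finsupp.mem_span_range_iff_exists_finsupp.1 (hspan.ge trivial)
  choose c hc using hsel
  let t : J → Γ(L, ⊤) := fun j => ∑ g ∈ (c j).support, alg X (c j g) • slTop g m
  have ht : ∀ j, M1.mres L (le_top : W ≤ ⊤) (t j) = al j • e := by
    intro j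
    simp only [t, map_sum, M1.mres_smul, hres, Finset.smul_sum]
    rw [Finset.sum_comm, Finset.sum_eq_single j]
    · simp only [smul_smul, ← _root_.mul_assoc, ← map_mul, ← Finset.sum_smul, ← Finset.sum_mul, ← map_sum]
      have h := congrFun (hc j) j
      simp only [Finsupp.sum, Finset.sum_apply, Pi.smul_apply, smul_eq_mul, Pi.single_eq_same] at h
      rw [h, map_one, map_one, _root_.one_mul]
    · intro j' _ hj'
      simp only [smul_smul, ← _root_.mul_assoc, ← map_mul, ← Finset.sum_smul, ← Finset.sum_mul, ← map_sum]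
      have h := congrFun (hc j) j'
      simp only [Finsupp.sum, Finset.sum_apply, Pi.smul_apply, smul_eq_mul, Pi.single_eq_of_ne hj'] at h
      rw [h, map_zero, map_zero, zero_mul, zero_smul]
    · exact fun h => absurd (Finset.mem_univ j) h
  refine ⟨J, inferInstance, b, t, hb, fun g => mres_injective_of_integral hL W hWne ?_⟩
  rw [hres, map_sum]
  exact Finset.sum_congr rfl fun j _ => by rw [M1.mres_smul, ht, smul_smul]


end Groth.Agent.AmpleFix14
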