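import Groth.Agent.Lib.AmpleFix14.Matrix
import Groth.Agent.Lib.PicPn.Seesaw
import Groth.Agent.Lib.TensorMod.Invertible
import Groth.Agent.Lib.TensorMod.PullTensor
import Groth.Agent.Lib.InvRing21.Quot
import Groth.Agent.Lib.AbRigid.Image
import Groth.Agent.S3020
import Groth.Agent.Lib.AbRigid.Maximal

/-!
# Groups acting faithfully and fixing an ample class are affine
-/

set_option autoImplicit false
set_option linter.style.haveILetI false
set_option linter.unusedSectionVars false
set_option backward.isDefEq.respectTransparency false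
set_option backward.isDefEq.respectTransparency.types false
universe u

open CategoryTheory CategoryTheory.Limits MonoidalCategory CartesianMonoidalCategory MonObj AlgebraicGeometry
open Topology TopologicalSpace

noncomputable section

namespace Groth.Agent.AmpleFix14

open OrbitTop19 (tr comp_tr)
open Sumihiro14 (loc mem_loc_iff vl slice slice_snd)

variable {k : Type u} [Field k] [IsAlgClosed k] {G X : Over (Spec (CommRingCat.of k))} [GrpObj G]
  [LocallyOfFiniteType G.hom] [IsReduced G.left] [IsProper X.hom] [IsIntegral X.left]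

omit [GrpObj G] [IsReduced G.left] [IsProper X.hom] [IsIntegral X.left] in
/-- The fibre over a closed point factors through a slice. -/
theorem exists_slice_fac (y : G.left) (hy : IsClosed ({y} : Set G.left)) :
    ∃ g : 𝟙_ (Over (Spec (CommRingCat.of k))) ⟶ G,
      (fst G X).left.fiberι y = ((fst G X).left.fiberι y ≫ (snd G X).left) ≫ (slice g).left := by
  let g : 𝟙_ (Over (Spec (CommRingCat.of k))) ⟶ G :=
    Over.homMk (pointOfClosedPoint G.hom y hy) (pointOfClosedPoint_comp _ _ _)
  refine ⟨g, ?_⟩
  have h1 : G.left.fromSpecResidueField y =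
      Spec.map (residueFieldIsoBase G.hom y hy).inv ≫ g.left := by
    show _ = _ ≫ pointOfClosedPoint G.hom y hy
    rw [pointOfClosedPoint, ← Spec.map_comp_assoc, Iso.hom_inv_id, Spec.map_id, Category.id_comp]
  have hsl : (slice (X := X) g).left ≫ (fst G X).left = X.hom ≫ g.left := by
    rw [← Over.comp_left, slice, lift_fst, Over.comp_left]
    rfl
  show _ = _
  apply pullback.hom_ext
  · show (fst G X).left.fiberι y ≫ (fst G X).left =
      (((fst G X).left.fiberι y ≫ (snd G X).left) ≫ (slice g).left) ≫ (fst G X).left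
    rw [Category.assoc, Category.assoc, hsl, ← Category.assoc (snd G X).left, Over.w (snd G X),
      show (G ⊗ X).hom = (fst G X).left ≫ G.hom from (Over.w (fst G X)).symm,
      Category.assoc (fst G X).left, ← Category.assoc, Scheme.Hom.fiber_fac, h1]
    simp only [Category.assoc]
    congr 2
    rw [← Category.assoc g.left, Over.w g]
    exact (Category.id_comp _).symm
  · show (fst G X).left.fiberι y ≫ (snd G X).left =
      (((fst G X).left.fiberι y ≫ (snd G X).left) ≫ (slice g).left) ≫ (snd G X).left
    rw [Category.assoc, slice_snd, Category.comp_id]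

omit [GrpObj G] in
/-- Families isomorphic on closed slices are isomorphic locally on the base. -/
theorem exists_local_iso {A B : (G ⊗ X).left.Modules} (hA : PicF.IsInvertible A) (hB : PicF.IsInvertible B)
    (h : ∀ g : 𝟙_ (Over (Spec (CommRingCat.of k))) ⟶ G,
      Nonempty ((Scheme.Modules.pullback (slice g).left).obj A ≅ (Scheme.Modules.pullback (slice g).left).obj B))
    (x : G.left) :
    ∃ U : G.left.Opens, IsAffineOpen U ∧ x ∈ U ∧
      Nonempty ((Scheme.Modules.pullback (opn U ▷ X).left).obj A ≅ (Scheme.Modules.pullback (opn U ▷ X).left).obj B) := by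
  haveI : IsLocallyNoetherian G.left := LocallyOfFiniteType.isLocallyNoetherian G.hom
  haveI : JacobsonSpace G.left := LocallyOfFiniteType.jacobsonSpace G.hom
  haveI := CubeField.geometricallyIntegral_of_isIntegral X.hom
  haveI : IsProper (fst G X).left := inferInstanceAs (IsProper (pullback.fst G.hom X.hom))
  haveI : Flat X.hom := inferInstance
  haveI : Flat (fst G X).left := inferInstanceAs (Flat (pullback.fst G.hom X.hom))
  haveI : GeometricallyIntegral (fst G X).left := inferInstanceAs (GeometricallyIntegral (pullback.fst G.hom X.hom))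
  haveI : LocallyOfFinitePresentation (fst G X).left := LimH13.locallyOfFinitePresentation_of_noetherian _
  haveI : GeometricallyConnected (fst G X).left := PicPn.geometricallyConnected_of_irreducible _
  have h0 := fun y => PicPn.finrank_fiber_of_geometrically (fst G X).left y
  obtain ⟨D, hD, ⟨e⟩⟩ := M2.exists_inverse hB
  have hAD : PicF.IsInvertible (CohB1.tensorMod A D) := M2.isInvertible_tensor hA hD
  have ht : ∀ y, Nonempty ((Scheme.Modules.pullback ((fst G X).left.fiberι y)).obj (CohB1.tensorMod A D) ≅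
      Coh.structureModule ((fst G X).left.fiber y)) :=
    PicPn.forall_trivial_of_closedPoints _ (fun y => inferInstance) hAD fun y hy => by
      obtain ⟨g, hg⟩ := exists_slice_fac (X := X) y hy
      let q := (fst G X).left.fiberι y ≫ (snd G X).left
      let i : ∀ M : (G ⊗ X).left.Modules, (Scheme.Modules.pullback ((fst G X).left.fiberι y)).obj M ≅
          (Scheme.Modules.pullback q).obj ((Scheme.Modules.pullback (slice g).left).obj M) := fun M =>
        (Scheme.Modules.pullbackCongr hg).app M ≪≫ ((Scheme.Modules.pullbackComp q (slice g).left).app M).symm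
      exact ⟨M2.pullTensorIso ((fst G X).left.fiberι y) A D ≪≫
        M2.tensorIso (i A ≪≫ (Scheme.Modules.pullback q).mapIso (h g).some ≪≫ (i B).symm) (Iso.refl _) ≪≫
        (M2.pullTensorIso ((fst G X).left.fiberι y) B D).symm ≪≫
        (Scheme.Modules.pullback ((fst G X).left.fiberι y)).mapIso e ≪≫
        Twist.pullbackUnitIso _⟩
  obtain ⟨⟨N, hN, ⟨φ⟩⟩, -⟩ := PicPn.exists_of_gens _ (PicPn.bijective_app_of_h0 _ h0)
    (fun y => PicPn.exists_gen_of_trivial_fibres _ h0 hAD ht y)
  obtain ⟨W, hxW, ⟨w⟩⟩ := hN x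
  obtain ⟨U, hU, hxU, hUW⟩ := exists_isAffineOpen_mem_and_subset (X := G.left) (x := x) (U := W) hxW
  refine ⟨U, hU, hxU, ?_⟩
  let T : Over (Spec (CommRingCat.of k)) := Over.mk (U.ι ≫ G.hom)
  let j := (opn U ▷ X).left
  let wU : (Scheme.Modules.pullback U.ι).obj N ≅ Coh.structureModule (U : Scheme.{u}) :=
    (Scheme.Modules.pullbackCongr (G.left.homOfLE_ι hUW).symm).app N ≪≫
      ((Scheme.Modules.pullbackComp (G.left.homOfLE hUW) W.ι).app N).symm ≪≫
      (Scheme.Modules.pullback (G.left.homOfLE hUW)).mapIso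
        (((Scheme.Modules.restrictFunctorIsoPullback W.ι).app N).symm ≪≫ w) ≪≫
      Twist.pullbackUnitIso _
  have hj : j ≫ (fst G X).left = (fst T X).left ≫ U.ι :=
    congrArg CommaMorphism.left (whiskerRight_fst (opn U) X)
  let wT : (Scheme.Modules.pullback j).obj ((Scheme.Modules.pullback (fst G X).left).obj N) ≅
      Coh.structureModule (T ⊗ X).left :=
    (Scheme.Modules.pullbackComp j (fst G X).left).app N ≪≫ (Scheme.Modules.pullbackCongr hj).app N ≪≫
      ((Scheme.Modules.pullbackComp (fst T X).left U.ι).app N).symm ≪≫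
      (Scheme.Modules.pullback (fst T X).left).mapIso wU ≪≫ Twist.pullbackUnitIso _
  let eA : A ≅ CohB1.tensorMod B ((Scheme.Modules.pullback (fst G X).left).obj N) :=
    (M2.tensorRUnit A).symm ≪≫ M2.tensorIso (Iso.refl A) (e.symm ≪≫ M2.tensorComm B D) ≪≫
    (M2.tensorAssoc A D B).symm ≪≫ M2.tensorComm _ B ≪≫ M2.tensorIso (Iso.refl B) φ.symm
  exact ⟨(Scheme.Modules.pullback j).mapIso eA ≪≫ M2.pullTensorIso j B _ ≪≫
    M2.tensorIso (Iso.refl _) wT ≪≫ M2.tensorRUnit _⟩

/-- The hypothesis of the construction of functions, for the action. -/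
theorem exists_theta (a : AlgGrp.Action G X) {L : X.left.Modules} (hL : PicF.IsInvertible L)
    (hfix : ∀ g : 𝟙_ (Over (Spec (CommRingCat.of k))) ⟶ G,
      Nonempty ((Scheme.Modules.pullback (tr a g).left).obj L ≅ L)) (x : G.left) :
    ∃ U : G.left.Opens, IsAffineOpen U ∧ x ∈ U ∧
      Nonempty ((Scheme.Modules.pullback ((opn U ▷ X) ≫ a.act).left).obj L ≅
        (Scheme.Modules.pullback (snd (Over.mk (U.ι ≫ G.hom)) X).left).obj L) := by
  obtain ⟨U, hU, hxU, ⟨θ⟩⟩ := exists_local_iso (A := (Scheme.Modules.pullback a.act.left).obj L)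
    (B := (Scheme.Modules.pullback (snd G X).left).obj L)
    (PicLoc.isInvertible_pullback _ hL) (PicLoc.isInvertible_pullback _ hL) (fun g => by
      have e1 : (slice g).left ≫ a.act.left = (tr a g).left := rfl
      exact ⟨(Scheme.Modules.pullbackComp _ _).app L ≪≫ (Scheme.Modules.pullbackCongr e1).app L ≪≫
        (hfix g).some ≪≫ ((Scheme.Modules.pullbackId X.left).app L).symm ≪≫
        (Scheme.Modules.pullbackCongr (slice_snd g).symm).app L ≪≫
        ((Scheme.Modules.pullbackComp (slice g).left (snd G X).left).app L).symm⟩) x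
  refine ⟨U, hU, hxU, ⟨?_⟩⟩
  have e2 : (opn U ▷ X).left ≫ (snd G X).left = (snd (Over.mk (U.ι ≫ G.hom)) X).left :=
    congrArg CommaMorphism.left (whiskerRight_snd (opn U) X)
  exact ((Scheme.Modules.pullbackComp _ _).app L).symm ≪≫ θ ≪≫ (Scheme.Modules.pullbackComp _ _).app L ≪≫
    (Scheme.Modules.pullbackCongr e2).app L

/-- A group acting faithfully on a projective variety and fixing an ample class is affine. -/
theorem isAffine_of_fix_ample [QuasiCompact G.hom] (a : AlgGrp.Action G X)
    (hfaith : ∀ g : 𝟙_ (Over (Spec (CommRingCat.of k))) ⟶ G, tr a g = 𝟙 X → g = 1)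
    {L : X.left.Modules} (hLa : CohB1.IsAmple L)
    (hfix : ∀ g : 𝟙_ (Over (Spec (CommRingCat.of k))) ⟶ G,
      Nonempty ((Scheme.Modules.pullback (tr a g).left).obj L ≅ L)) : IsAffine G.left := by
  classical
  haveI := AbRigid.isSeparated_of_grpObj G
  haveI : CompactSpace G.left := QuasiCompact.compactSpace_of_compactSpace G.hom
  haveI : JacobsonSpace X.left := LocallyOfFiniteType.jacobsonSpace X.hom
  have hsep : ∀ g h : 𝟙_ (Over (Spec (CommRingCat.of k))) ⟶ G, g ≠ h →
      ∃ c : Γ(G.left, ⊤), vl g c ≠ vl h c := by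
    intro g h hgh
    obtain ⟨y, hy, hne⟩ : ∃ y : X.left, IsClosed ({y} : Set X.left) ∧ (tr a g).left y ≠ (tr a h).left y := by
      by_contra hc
      push Not at hc
      have htr : tr a g = tr a h := by
        haveI : LocallyOfFiniteType ((tr a g).left ≫ X.hom) := by rw [Over.w]; infer_instance
        exact Over.OverMorphism.ext (ext_of_apply_eq X.hom Set.univ isOpen_univ.isLocallyClosed dense_univ
          (fun x _ hx => hc x hx) (by rw [Over.w, Over.w]))
      refine hgh ?_
      have h1 : tr a (h⁻¹ * g) = 𝟙 X := by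
        rw [← OrbitTop19.tr_inv a h, ← htr, comp_tr a h⁻¹, tr, tr, ← AlgGrpBasic19.act_mul, MonObj.comp_mul]
      exact (inv_mul_eq_one.1 (hfaith _ h1)).symm
    haveI : IsClosedImmersion (tr a g).left := by
      haveI : IsIso (tr a g).left := inferInstanceAs (IsIso ((Over.forget _).mapIso (OrbitTop19.trIso a g)).hom)
      infer_instance
    haveI : IsClosedImmersion (tr a h).left := by
      haveI : IsIso (tr a h).left := inferInstanceAs (IsIso ((Over.forget _).mapIso (OrbitTop19.trIso a h)).hom)
      infer_instance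
    have hcl : IsClosed ({(tr a h).left y} : Set X.left) := by
      rw [← Set.image_singleton]
      exact (tr a h).left.isClosedEmbedding.isClosedMap _ hy
    obtain ⟨n, O, ⟨s, hs⟩, hgO, hOh, -⟩ := Amp.exists_hasSec_le hLa
      (V := ⟨({(tr a h).left y} : Set X.left)ᶜ, hcl.isOpen_compl⟩) (x := (tr a g).left y) hne
    let Ln := CohB1.tensorPow L (n + 1)
    have hLn : PicF.IsInvertible Ln := M2.isInvertible_tensorPow hLa.1 _
    have hfixn : ∀ g' : 𝟙_ (Over (Spec (CommRingCat.of k))) ⟶ G,
        Nonempty ((Scheme.Modules.pullback (tr a g').left).obj Ln ≅ Ln) := fun g' =>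
      ⟨M2.pullTensorPowIso (tr a g').left L (n + 1) ≪≫ M2.tensorPowIso (hfix g').some (n + 1)⟩
    have hloc' : loc (Amp.gval s) = O := by rw [Sumihiro14.loc, Amp.secHom_gval, hs]
    exact exists_separating a hLn hfixn (exists_theta a hLn hfixn) g h (Amp.gval s) y
      (by rw [hloc']; exact hgO) (by rw [hloc']; exact fun hm => hOh hm rfl)
  -- finitely many functions separate
  haveI : LocallyOfFiniteType (G ⊗ G).hom :=
    inferInstanceAs (LocallyOfFiniteType (pullback.fst G.hom G.hom ≫ G.hom))
  haveI : QuasiCompact (G ⊗ G).hom := inferInstanceAs (QuasiCompact (pullback.fst G.hom G.hom ≫ G.hom))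
  haveI : IsLocallyNoetherian (G ⊗ G).left := LocallyOfFiniteType.isLocallyNoetherian (G ⊗ G).hom
  haveI : CompactSpace (G ⊗ G).left := QuasiCompact.compactSpace_of_compactSpace (G ⊗ G).hom
  haveI : IsNoetherian (G ⊗ G).left := {}
  let E : Γ(G.left, ⊤) → (G ⊗ G).left.Opens := fun c =>
    (G ⊗ G).left.basicOpen ((fst G G).left.appTop c - (snd G G).left.appTop c)
  obtain ⟨S, hS⟩ := (TopologicalSpace.NoetherianSpace.isCompact
    (⋃ c, (E c : Set (G ⊗ G).left))).elim_finite_subcover (fun c => (E c : Set (G ⊗ G).left))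
      (fun c => (E c).isOpen) subset_rfl
  haveI : G.left.IsQuasiAffine := InvRing21.isQuasiAffine_of_separating G.hom S fun p q hp hq hpq => by
    by_contra hne
    let g : 𝟙_ (Over (Spec (CommRingCat.of k))) ⟶ G := Over.homMk p hp
    let h : 𝟙_ (Over (Spec (CommRingCat.of k))) ⟶ G := Over.homMk q hq
    obtain ⟨c, hc⟩ := hsep g h fun e => hne (congrArg CommaMorphism.left e)
    let z := (lift g h).left (IsLocalRing.closedPoint k)
    have key : ∀ c : Γ(G.left, ⊤), z ∈ E c ↔ vl g c ≠ vl h c := by
      intro c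
      have e1 : (lift g h).left.appTop ((fst G G).left.appTop c - (snd G G).left.appTop c) =
          g.left.appTop c - h.left.appTop c := by
        rw [map_sub, ← UnitsRos.appTop_comp, ← UnitsRos.appTop_comp, lift_fst, lift_snd]
      have e2 : vl g c - vl h c = (Scheme.ΓSpecIso (CommRingCat.of k)).hom (g.left.appTop c - h.left.appTop c) :=
        (map_sub (Scheme.ΓSpecIso (CommRingCat.of k)).hom.hom _ _).symm
      rw [ne_eq, ← sub_eq_zero, e2, ← e1]
      show (IsLocalRing.closedPoint k : Spec (CommRingCat.of k)) ∈ (lift g h).left ⁻¹ᵁ E c ↔ _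
      rw [Scheme.preimage_basicOpen_top]
      generalize (lift g h).left.appTop ((fst G G).left.appTop c - (snd G G).left.appTop c) = v
      constructor
      · intro hv h0
        have hv0 : v = 0 := (ConcreteCategory.bijective_of_isIso (Scheme.ΓSpecIso (CommRingCat.of k)).hom).1
          (h0.trans (map_zero (Scheme.ΓSpecIso (CommRingCat.of k)).hom.hom).symm)
        rw [hv0, Scheme.basicOpen_zero] at hv
        exact hv
      · intro h0
        have hu := (isUnit_iff_ne_zero.2 h0).map (Scheme.ΓSpecIso (CommRingCat.of k)).inv.hom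
        erw [Iso.hom_inv_id_apply] at hu
        exact (Scheme.basicOpen_of_isUnit _ hu).ge trivial
    obtain ⟨c', hc'S, hc'⟩ := Set.mem_iUnion₂.1 (hS (Set.mem_iUnion.2 ⟨c, (key c).2 hc⟩))
    exact (key c').1 hc' (congrArg (Scheme.ΓSpecIso (CommRingCat.of k)).hom (hpq c' hc'S))
  exact Groth.Agent.S3020.result k G

end Groth.Agent.AmpleFix14
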