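import Groth.Agent.Lib.AmpleFix14.Gen
import Groth.Agent.Lib.AffRep19.ProperGamma
import Groth.Agent.Lib.NegTwist18.Main
import Groth.Agent.Lib.DiagGL.Split
import Groth.Agent.Lib.CubeField.Simple
import Groth.Agent.Lib.CubeField.Fin
import Mathlib.LinearAlgebra.Matrix.ToLin
import Mathlib.LinearAlgebra.Matrix.NonsingularInverse

/-!
# Functions on a group from translations of sections up to scalars
-/

set_option autoImplicit false
set_option linter.style.haveILetI false
set_option linter.unusedSectionVars false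
set_option backward.isDefEq.respectTransparency false
set_option backward.isDefEq.respectTransparency.types false
universe u

open CategoryTheory CategoryTheory.Limits MonoidalCategory CartesianMonoidalCategory MonObj AlgebraicGeometry
open Topology TopologicalSpace

noncomputable section

namespace Groth.Agent.AmpleFix14

open OrbitTop19 (tr comp_tr)
open Groth.Agent.Amp (Gen gm)
open Groth.Agent.ModLimH13 (res')
open Sumihiro14 (loc mem_loc_iff vl vl_mul vl_alg vlL slice)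
open DiagGL (alg alg_comp)

variable {k : Type u} [Field k]

section op

variable {X : Scheme.{u}} {L : X.Modules} (f : X ⟶ X) (φ : (Scheme.Modules.pullback f).obj L ⟶ L)

/-- Transport of sections along a morphism. -/
def op (s : Γ(L, ⊤)) : Γ(L, ⊤) :=
  φ.app ⊤ (res' f L (W := ⊤) (fun _ _ => trivial : (⊤ : X.Opens) ≤ f ⁻¹ᵁ ⊤) s)

theorem op_add (s t : Γ(L, ⊤)) : op f φ (s + t) = op f φ s + op f φ t := by
  rw [op, res', M2.pullSec_add, map_add, map_add]
  rfl

theorem op_smul (c : Γ(X, ⊤)) (s : Γ(L, ⊤)) : op f φ (c • s) = f.appTop c • op f φ s := by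
  rw [op, res', M2.pullSec_smul, M1.mres_smul, Scheme.Modules.Hom.app_smul]
  congr 1
  rw [Scheme.Hom.app_eq_appLE, Scheme.Hom.appTop, Scheme.Hom.app_eq_appLE]
  show (_ ≫ _ : Γ(X, ⊤) ⟶ Γ(X, ⊤)) c = _
  simp only [Scheme.Hom.appLE_map]
  rfl

theorem op_comp (ψ : L ⟶ L) (s : Γ(L, ⊤)) : op f (φ ≫ ψ) s = ψ.app ⊤ (op f φ s) := rfl

theorem gen_op_iff [IsIso φ] (hL : PicF.IsInvertible L) (s : Γ(L, ⊤)) (y : X) :
    Gen (gm L y (U := ⊤) trivial (op f φ s)) ↔ Gen (gm L (f y) (U := ⊤) trivial s) := by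
  refine (Amp.gen_map_iso (asIso φ) (U := ⊤) trivial _).trans ?_
  rw [res']
  erw [Amp.gm_res]
  exact Amp.gen_pullSec_iff f hL (U := ⊤) trivial s

theorem op_injective [IsIso φ] [Surjective f] [IsIntegral X] (hL : PicF.IsInvertible L) {s : Γ(L, ⊤)}
    (h : op f φ s = 0) : s = 0 := by
  by_contra hs
  obtain ⟨x, hx⟩ := CubeField.genLocus_nonempty_of_ne_zero hL hs
  obtain ⟨y, rfl⟩ := f.surjective x
  have h1 : Gen (gm L y (U := ⊤) trivial (op f φ s)) := (gen_op_iff f φ hL s y).2 ((mem_loc_iff hL).1 hx)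
  rw [h] at h1
  have h2 : y ∈ loc (0 : Γ(L, ⊤)) := (mem_loc_iff hL).2 h1
  rw [Sumihiro14.loc_zero hL] at h2
  exact h2

end op

section functions

variable {G : Over (Spec (CommRingCat.of k))}

/-- The value at a point of a function on an open containing it. -/
def vlOn (g : 𝟙_ (Over (Spec (CommRingCat.of k))) ⟶ G) (U : G.left.Opens) (hU : ⊤ ≤ g.left ⁻¹ᵁ U)
    (c : Γ(G.left, U)) : k :=
  (Scheme.ΓSpecIso (CommRingCat.of k)).hom (g.left.appLE U ⊤ hU c)

theorem vl_eq_vlOn (g : 𝟙_ (Over (Spec (CommRingCat.of k))) ⟶ G) (c : Γ(G.left, ⊤)) (h : ⊤ ≤ g.left ⁻¹ᵁ ⊤) :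
    vl g c = vlOn g ⊤ h c := by
  rw [vlOn, vl, Scheme.Hom.appTop, Scheme.Hom.app_eq_appLE]
  rfl

theorem vlOn_res (g : 𝟙_ (Over (Spec (CommRingCat.of k))) ⟶ G) {U V : G.left.Opens} (hVU : V ≤ U)
    (hV : ⊤ ≤ g.left ⁻¹ᵁ V) (c : Γ(G.left, U)) :
    vlOn g V hV (G.left.presheaf.map (homOfLE hVU).op c) =
      vlOn g U (hV.trans (g.left.preimage_mono hVU)) c := by
  rw [vlOn, vlOn, ← CommRingCat.comp_apply, Scheme.Hom.map_appLE]

theorem vlOn_sub (g : 𝟙_ (Over (Spec (CommRingCat.of k))) ⟶ G) {U : G.left.Opens} (hU : ⊤ ≤ g.left ⁻¹ᵁ U)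
    (c d : Γ(G.left, U)) : vlOn g U hU (c - d) = vlOn g U hU c - vlOn g U hU d :=
  map_sub ((Scheme.ΓSpecIso (CommRingCat.of k)).hom.hom.comp (g.left.appLE U ⊤ hU).hom) c d

theorem vlOn_ne_zero (g : 𝟙_ (Over (Spec (CommRingCat.of k))) ⟶ G) {U : G.left.Opens} (hU : ⊤ ≤ g.left ⁻¹ᵁ U)
    {c : Γ(G.left, U)} (h : g.left (IsLocalRing.closedPoint k) ∈ G.left.basicOpen c) : vlOn g U hU c ≠ 0 := by
  have e : (⊤ : (𝟙_ (Over (Spec (CommRingCat.of k)))).left.Opens) ≤
      (𝟙_ (Over (Spec (CommRingCat.of k)))).left.basicOpen (g.left.appLE U ⊤ hU c) := by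
    intro y _
    obtain rfl : y = IsLocalRing.closedPoint k :=
      @Subsingleton.elim _ (inferInstanceAs (Subsingleton (PrimeSpectrum k))) _ _
    rw [Scheme.basicOpen_appLE]
    exact ⟨trivial, h⟩
  have hu : IsUnit (g.left.appLE U ⊤ hU c) :=
    (𝟙_ (Over (Spec (CommRingCat.of k)))).left.toRingedSpace.isUnit_of_isUnit_germ _ _ fun y hy =>
      (Scheme.mem_basicOpen _ _ y hy).1 (e hy)
  exact (hu.map (Scheme.ΓSpecIso (CommRingCat.of k)).hom.hom).ne_zero

theorem top_le_preimage (g : 𝟙_ (Over (Spec (CommRingCat.of k))) ⟶ G) {U : G.left.Opens}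
    (h : g.left (IsLocalRing.closedPoint k) ∈ U) : ⊤ ≤ g.left ⁻¹ᵁ U := fun y _ => by
  obtain rfl : y = IsLocalRing.closedPoint k :=
    @Subsingleton.elim _ (inferInstanceAs (Subsingleton (PrimeSpectrum k))) _ _
  exact h

variable [IsAlgClosed k] [LocallyOfFiniteType G.hom]

theorem eq_zero_of_vlOn [IsReduced G.left] {U : G.left.Opens} (c : Γ(G.left, U))
    (h : ∀ g hU, vlOn g U hU c = 0) : c = 0 := by
  haveI : JacobsonSpace G.left := LocallyOfFiniteType.jacobsonSpace G.hom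
  rw [← basicOpen_eq_bot_iff c]
  by_contra hne
  obtain ⟨z, hz⟩ : (G.left.basicOpen c : Set G.left).Nonempty := by
    rw [Set.nonempty_iff_ne_empty]
    exact fun h0 => hne (Opens.ext h0)
  obtain ⟨v, hv, hvc⟩ := nonempty_inter_closedPoints ⟨z, hz⟩ (G.left.basicOpen c).isOpen.isLocallyClosed
  obtain ⟨g, rfl⟩ := OrbitTop19.exists_point G v hvc
  exact vlOn_ne_zero g (top_le_preimage g (G.left.basicOpen_le c hv)) hv (h g _)

theorem isUnit_of_vl [IsAffine G.left] (c : Γ(G.left, ⊤)) (h : ∀ g, vl g c ≠ 0) : IsUnit c := by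
  haveI : JacobsonSpace G.left := LocallyOfFiniteType.jacobsonSpace G.hom
  refine G.left.toRingedSpace.isUnit_of_isUnit_germ _ c fun z hz => (Scheme.mem_basicOpen _ c z hz).1 ?_
  by_contra hzb
  obtain ⟨v, hv, hvc⟩ := nonempty_inter_closedPoints (Z := ((G.left.basicOpen c : Set G.left))ᶜ) ⟨z, hzb⟩
    (G.left.basicOpen c).isOpen.isClosed_compl.isLocallyClosed
  obtain ⟨g, rfl⟩ := OrbitTop19.exists_point G v hvc
  refine h g ?_
  by_contra h0
  refine hv ?_
  have hu : IsUnit (g.left.appTop c) := by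
    have := (isUnit_iff_ne_zero.2 h0).map (Scheme.ΓSpecIso (CommRingCat.of k)).inv.hom
    erw [Iso.hom_inv_id_apply] at this
    exact this
  show (IsLocalRing.closedPoint k : Spec (CommRingCat.of k)) ∈ g.left ⁻¹ᵁ G.left.basicOpen c
  rw [Scheme.preimage_basicOpen_top]
  exact (Scheme.basicOpen_of_isUnit _ hu).ge trivial

/-- Functions with prescribed values at points are global as soon as they are local. -/
theorem exists_vl_eq [IsReduced G.left] (val : (𝟙_ (Over (Spec (CommRingCat.of k))) ⟶ G) → k)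
    (h : ∀ x : G.left, ∃ (U : G.left.Opens) (c : Γ(G.left, U)), x ∈ U ∧ ∀ g hU, vlOn g U hU c = val g) :
    ∃ c : Γ(G.left, ⊤), ∀ g, vl g c = val g := by
  choose U c hx hc using h
  have hcov : (⊤ : G.left.Opens) ≤ iSup U := fun x _ => Opens.mem_iSup.2 ⟨x, hx x⟩
  have hcompat : TopCat.Presheaf.IsCompatible G.left.presheaf U c := by
    intro x y
    refine sub_eq_zero.1 (eq_zero_of_vlOn _ fun g hg => ?_)
    rw [vlOn_sub]
    show vlOn g _ hg (G.left.presheaf.map (homOfLE (inf_le_left : U x ⊓ U y ≤ U x)).op (c x)) -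
      vlOn g _ hg (G.left.presheaf.map (homOfLE (inf_le_right : U x ⊓ U y ≤ U y)).op (c y)) = 0
    rw [vlOn_res, vlOn_res, hc, hc, sub_self]
  obtain ⟨s, hs, -⟩ := G.left.sheaf.existsUnique_gluing' U ⊤ (fun x => homOfLE le_top) hcov c hcompat
  refine ⟨s, fun g => ?_⟩
  let x := g.left (IsLocalRing.closedPoint k)
  rw [← hc x g (top_le_preimage g (hx x)), ← hs x, vl_eq_vlOn g s (fun _ _ => trivial)]
  exact (vlOn_res g (le_top : U x ≤ ⊤) (top_le_preimage g (hx x)) s).symm

end functions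

section matrix

variable {N : Type*} [Fintype N] [DecidableEq N]

/-- Scale invariant products of entries of a matrix and of its inverse. -/
def inv2 (M : Matrix N N k) (i : N × N × N × N) : k := M i.1 i.2.1 * M⁻¹ i.2.2.1 i.2.2.2

theorem inv2_smul {r : k} (hr : r ≠ 0) {M : Matrix N N k} (hM : IsUnit M.det) (i : N × N × N × N) :
    inv2 (r • M) i = inv2 M i := by
  have h : (r • M)⁻¹ = r⁻¹ • M⁻¹ :=
    Matrix.inv_eq_right_inv (by
      rw [Matrix.smul_mul, Matrix.mul_smul, smul_smul, mul_inv_cancel₀ hr, one_smul, Matrix.mul_nonsing_inv M hM])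
  simp only [inv2, h, Matrix.smul_apply, smul_eq_mul]
  field_simp

theorem exists_smul_of_inv2 [Nonempty N] {M M' : Matrix N N k} (hM : IsUnit M.det) (hM' : IsUnit M'.det)
    (h : ∀ i, inv2 M i = inv2 M' i) : ∃ r : k, r ≠ 0 ∧ M = r • M' := by
  have hne : ∀ {A : Matrix N N k}, IsUnit A.det → A ≠ 0 := fun hA h0 => by
    rw [h0, Matrix.det_zero] at hA
    exact not_isUnit_zero hA
  obtain ⟨l, m, hb⟩ : ∃ l m, M'⁻¹ l m ≠ 0 := by
    by_contra hc
    push Not at hc
    exact hne (Matrix.isUnit_nonsing_inv_det M' hM') (Matrix.ext fun a b => hc a b)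
  obtain ⟨i, j, hij⟩ : ∃ i j, M' i j ≠ 0 := by
    by_contra hc
    push Not at hc
    exact hne hM' (Matrix.ext fun a b => hc a b)
  have h' : ∀ a b, M a b * M⁻¹ l m = M' a b * M'⁻¹ l m := fun a b => h (a, b, l, m)
  have ha : M⁻¹ l m ≠ 0 := fun h0 => by
    have := h' i j
    rw [h0, mul_zero] at this
    exact mul_ne_zero hij hb this.symm
  refine ⟨M'⁻¹ l m / M⁻¹ l m, div_ne_zero hb ha, Matrix.ext fun a b => ?_⟩
  rw [Matrix.smul_apply, smul_eq_mul, div_mul_eq_mul_div, eq_div_iff ha, h' a b, mul_comm]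

end matrix

variable [IsAlgClosed k] {G X : Over (Spec (CommRingCat.of k))} [GrpObj G] [LocallyOfFiniteType G.hom]
  [IsReduced G.left] [IsProper X.hom] [IsIntegral X.left]

/-- The inclusion of an open subscheme. -/
abbrev opn (U : G.left.Opens) : Over.mk (U.ι ≫ G.hom) ⟶ G := Over.homMk U.ι rfl

omit [GrpObj G] [LocallyOfFiniteType G.hom] [IsReduced G.left] in
/-- The coordinates of slices of moved sections are regular. -/
theorem exists_coord {T : Over (Spec (CommRingCat.of k))} [IsAffine T.left] [IsReduced T.left] [LocallyOfFiniteType T.hom]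
    {L : X.left.Modules} (hL : PicF.IsInvertible L) [Module k Γ(L, ⊤)] (hmod : ∀ (r : k) (s : Γ(L, ⊤)), r • s = alg X r • s)
    {N : Type*} (B : Module.Basis N k Γ(L, ⊤)) (m : N → Γ((Scheme.Modules.pullback (snd T X).left).obj L, ⊤)) :
    ∃ C : Matrix N N Γ(T.left, ⊤), ∀ t' l l', vl t' (C l l') = B.repr (slTop t' (m l')) l := by
  choose J hJ b t hb hexp using fun l : N => exists_expansion (G := T) (X := X) hL (m l)
  refine ⟨fun l l' => letI := hJ l'; ∑ j, CubeField.toΓ (b l' j) * alg T (B.repr (t l' j) l), fun t' l l' => ?_⟩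
  letI := hJ l'
  have h1 : slTop t' (m l') = ∑ j, vlL t' (b l' j) • t l' j :=
    (hexp l' t').trans (Finset.sum_congr rfl fun j _ => (hmod _ _).symm)
  rw [h1, map_sum, Finsupp.finset_sum_apply]
  refine (map_sum ((Scheme.ΓSpecIso (CommRingCat.of k)).hom.hom.comp t'.left.appTop.hom) _ _).trans
    (Finset.sum_congr rfl fun j _ => ?_)
  show vl t' (CubeField.toΓ (b l' j) * alg T _) = _
  rw [vl_mul, vl_alg, map_smul, Finsupp.smul_apply, smul_eq_mul]
  rfl

omit [LocallyOfFiniteType G.hom] [IsReduced G.left] in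
theorem slice_opn_act (a : AlgGrp.Action G X) (U : G.left.Opens)
    (t' : 𝟙_ (Over (Spec (CommRingCat.of k))) ⟶ Over.mk (U.ι ≫ G.hom)) :
    (slice t').left ≫ ((opn U ▷ X) ≫ a.act).left = (tr a (t' ≫ opn U)).left := by
  rw [← Over.comp_left]
  congr 1
  rw [slice, tr, ← Category.assoc]
  congr 1
  apply CartesianMonoidalCategory.hom_ext <;> simp

omit [GrpObj G] [LocallyOfFiniteType G.hom] [IsReduced G.left] in
theorem vlOn_topIso (U : G.left.Opens) (g : 𝟙_ (Over (Spec (CommRingCat.of k))) ⟶ G) (hg : ⊤ ≤ g.left ⁻¹ᵁ U)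
    (t' : 𝟙_ (Over (Spec (CommRingCat.of k))) ⟶ Over.mk (U.ι ≫ G.hom)) (ht' : t' ≫ opn U = g)
    (c : Γ((U : Scheme.{u}), ⊤)) : vlOn g U hg (U.topIso.hom c) = vl t' c := by
  obtain ⟨d, rfl⟩ := (ConcreteCategory.bijective_of_isIso U.topIso.inv).2 c
  erw [U.topIso.inv_hom_id_apply]
  rw [vl, vlOn]
  congr 1
  have e2 : U.ι.appLE U ⊤ U.ι_preimage_self.ge d = U.topIso.inv d := by
    rw [Scheme.Opens.ι_appLE, Scheme.Opens.topIso_inv]
    rfl
  rw [← e2]
  show _ = (U.ι.appLE U ⊤ U.ι_preimage_self.ge ≫ t'.left.app ⊤) d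
  rw [Scheme.Hom.app_eq_appLE]
  erw [Scheme.Hom.appLE_comp_appLE]
  exact NRQ21.appLE_hom_congr (congrArg CommaMorphism.left ht'.symm) _ _ _

omit [GrpObj G] [LocallyOfFiniteType G.hom] [IsReduced G.left] in
theorem exists_lift_opn (U : G.left.Opens) (g : 𝟙_ (Over (Spec (CommRingCat.of k))) ⟶ G) (hg : ⊤ ≤ g.left ⁻¹ᵁ U) :
    ∃ t' : 𝟙_ (Over (Spec (CommRingCat.of k))) ⟶ Over.mk (U.ι ≫ G.hom), t' ≫ opn U = g := by
  refine ⟨Over.homMk (IsOpenImmersion.lift U.ι g.left (by
    erw [Scheme.Opens.range_ι]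
    rintro _ ⟨z, rfl⟩
    exact hg (show z ∈ ⊤ from trivial))) (by
    show _ ≫ U.ι ≫ G.hom = _
    rw [IsOpenImmersion.lift_fac_assoc, Over.w]), Over.OverMorphism.ext (IsOpenImmersion.lift_fac _ _ _)⟩

omit [GrpObj G] [LocallyOfFiniteType G.hom] [IsReduced G.left] in
/-- Two transports along one morphism differ by a scalar. -/
theorem exists_op_scalar {L : X.left.Modules} (hL : PicF.IsInvertible L) (f : X.left ⟶ X.left)
    (φ : (Scheme.Modules.pullback f).obj L ≅ L) (ψ : (Scheme.Modules.pullback f).obj L ⟶ L) [IsIso ψ] :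
    ∃ r : k, r ≠ 0 ∧ ∀ v, op f ψ v = alg X r • op f φ.hom v := by
  obtain ⟨c, hc, -⟩ := ThetaGrp19.existsUnique_smulHom hL (φ.inv ≫ ψ)
  obtain ⟨d, hd, -⟩ := ThetaGrp19.existsUnique_smulHom hL (inv ψ ≫ φ.hom)
  have hcd : c * d = 1 := by
    refine ThetaGrp19.smulHom_injective hL ?_
    rw [← ThetaGrp19.smulHom_comp, ← hc, ← hd, ThetaGrp19.smulHom_one, Category.assoc, IsIso.hom_inv_id_assoc,
      Iso.inv_hom_id]
  obtain ⟨r, rfl⟩ := (AffRep19.bijective_structure X.left X.hom).2 c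
  refine ⟨r, fun h0 => ?_, fun v => ?_⟩
  · rw [h0, map_zero, zero_mul] at hcd
    exact zero_ne_one hcd
  · rw [show ψ = φ.hom ≫ ThetaGrp19.smulHom L _ by rw [← hc, Iso.hom_inv_id_assoc], op_comp,
      ThetaGrp19.smulHom_app]
    show M1.ores le_top (alg X r) • _ = alg X r • _
    rw [M1.ores_id]

omit [GrpObj G] [LocallyOfFiniteType G.hom] [IsReduced G.left] [IsProper X.hom] [IsIntegral X.left] in
theorem toMatrix_smul_of_apply {V : Type u} [AddCommGroup V] [Module k V] {N : Type*} [Fintype N] [DecidableEq N]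
    (B : Module.Basis N k V) (l₁ l₂ : V →ₗ[k] V) (r : k) (h : ∀ v, l₁ v = r • l₂ v) :
    LinearMap.toMatrix B B l₁ = r • LinearMap.toMatrix B B l₂ := by
  rw [show l₁ = r • l₂ from LinearMap.ext h, map_smul]

/-- Points fixing a class up to isomorphism, locally in families: global functions tell apart translations which differ on a locus. -/
theorem exists_separating (a : AlgGrp.Action G X) {L : X.left.Modules} (hL : PicF.IsInvertible L)
    (hfix : ∀ g : 𝟙_ (Over (Spec (CommRingCat.of k))) ⟶ G,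
      Nonempty ((Scheme.Modules.pullback (tr a g).left).obj L ≅ L))
    (hloc : ∀ x : G.left, ∃ U : G.left.Opens, IsAffineOpen U ∧ x ∈ U ∧
      Nonempty ((Scheme.Modules.pullback ((opn U ▷ X) ≫ a.act).left).obj L ≅
        (Scheme.Modules.pullback (snd (Over.mk (U.ι ≫ G.hom)) X).left).obj L))
    (g h : 𝟙_ (Over (Spec (CommRingCat.of k))) ⟶ G) (s : Γ(L, ⊤)) (y : X.left)
    (hy : (tr a g).left y ∈ loc s) (hy' : (tr a h).left y ∉ loc s) :
    ∃ c : Γ(G.left, ⊤), vl g c ≠ vl h c := by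
  classical
  by_contra hcon
  push Not at hcon
  letI : Module k Γ(L, ⊤) := Module.compHom _ (alg X)
  haveI : Module.Finite k Γ(L, ⊤) := NegTwist18.finite_sections X.hom (CubeField.isCoh_of_isInvertible hL)
  let B := Module.Free.chooseBasis k Γ(L, ⊤)
  let N := Module.Free.ChooseBasisIndex k Γ(L, ⊤)
  haveI hsurj : ∀ g', Surjective (tr a g').left := fun g' => by
    haveI : IsIso (tr a g').left := inferInstanceAs (IsIso ((Over.forget _).mapIso (OrbitTop19.trIso a g')).hom)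
    infer_instance
  let lin : ∀ g', ((Scheme.Modules.pullback (tr a g').left).obj L ⟶ L) → (Γ(L, ⊤) →ₗ[k] Γ(L, ⊤)) :=
    fun g' φ =>
      { toFun := op (tr a g').left φ
        map_add' := op_add _ _
        map_smul' := fun r t => by
          show op _ φ (alg X r • t) = alg X r • _
          rw [op_smul, alg_comp] }
  have hlin : ∀ g' φ, IsIso φ → IsUnit (LinearMap.toMatrix B B (lin g' φ)).det := by
    intro g' φ hφ
    haveI := hφ
    have hi : Function.Injective (lin g' φ) :=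
      LinearMap.ker_eq_bot.1 (LinearMap.ker_eq_bot'.2 fun t ht => op_injective _ φ hL ht)
    have he := LinearEquiv.isUnit_det (LinearEquiv.ofBijective (lin g' φ)
      ⟨hi, LinearMap.injective_iff_surjective.1 hi⟩) B B
    exact he
  let M : (𝟙_ (Over (Spec (CommRingCat.of k))) ⟶ G) → Matrix N N k := fun g' =>
    LinearMap.toMatrix B B (lin g' (hfix g').some.hom)
  have hM : ∀ g', IsUnit (M g').det := fun g' => hlin g' _ inferInstance
  haveI : Nonempty N := by
    by_contra hN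
    haveI := not_nonempty_iff.1 hN
    haveI : Subsingleton Γ(L, ⊤) := B.repr.toEquiv.subsingleton
    rw [Subsingleton.elim s 0, Sumihiro14.loc_zero hL] at hy
    exact hy
  have hglob : ∀ i, ∃ c : Γ(G.left, ⊤), ∀ g', vl g' c = inv2 (M g') i := by
    intro i
    refine exists_vl_eq _ fun x => ?_
    obtain ⟨U, hU, hxU, ⟨θ⟩⟩ := hloc x
    let T : Over (Spec (CommRingCat.of k)) := Over.mk (U.ι ≫ G.hom)
    haveI : IsAffine T.left := hU
    haveI : IsReduced T.left := inferInstanceAs (IsReduced (U : Scheme.{u}))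
    haveI : LocallyOfFiniteType T.hom := inferInstanceAs (LocallyOfFiniteType (U.ι ≫ G.hom))
    let F := ((opn U ▷ X) ≫ a.act).left
    obtain ⟨C, hCl⟩ := exists_coord (T := T) hL (fun _ _ => rfl) B fun l => mv F θ.hom (B l)
    have hC : ∀ t' : 𝟙_ (Over (Spec (CommRingCat.of k))) ⟶ T,
        C.map (vl t') = LinearMap.toMatrix B B (lin (t' ≫ opn U) (psi F θ.hom t' (slice_opn_act a U t'))) := fun t' => by
      ext l l'
      rw [Matrix.map_apply, LinearMap.toMatrix_apply, hCl]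
      exact congrArg (fun v => B.repr v l) (psi_app F θ.hom t' (slice_opn_act a U t') (B l') _).symm
    have hdet : ∀ t', vl t' C.det ≠ 0 := fun t' => by
      have h1 : (C.map (vl t')).det = vl t' C.det :=
        (RingHom.map_det ((Scheme.ΓSpecIso (CommRingCat.of k)).hom.hom.comp t'.left.appTop.hom) C).symm
      rw [← h1, hC]
      exact (hlin _ _ inferInstance).ne_zero
    have hCu : IsUnit C.det := isUnit_of_vl _ hdet
    refine ⟨U, U.topIso.hom (C i.1 i.2.1 * C⁻¹ i.2.2.1 i.2.2.2), hxU, fun g' hg' => ?_⟩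
    obtain ⟨t', ht'⟩ := exists_lift_opn U g' hg'
    rw [vlOn_topIso U g' hg' t' ht', vl_mul]
    let ev := (Scheme.ΓSpecIso (CommRingCat.of k)).hom.hom.comp t'.left.appTop.hom
    have hinv : (C⁻¹).map (vl t') = (C.map (vl t'))⁻¹ := by
      refine (Matrix.inv_eq_right_inv ?_).symm
      show C.map ev * (C⁻¹).map ev = 1
      rw [← Matrix.map_mul, Matrix.mul_nonsing_inv C hCu, Matrix.map_one _ ev.map_zero ev.map_one]
    have h2 : vl t' (C⁻¹ i.2.2.1 i.2.2.2) = (C.map (vl t'))⁻¹ i.2.2.1 i.2.2.2 := by rw [← hinv]; rfl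
    rw [h2]
    show inv2 (C.map (vl t')) i = inv2 (M g') i
    subst ht'
    obtain ⟨r, hr0, hr⟩ := exists_op_scalar hL (tr a (t' ≫ opn U)).left (hfix (t' ≫ opn U)).some
      (psi F θ.hom t' (slice_opn_act a U t'))
    rw [hC, toMatrix_smul_of_apply B (lin _ (psi F θ.hom t' (slice_opn_act a U t'))) (lin _ (hfix (t' ≫ opn U)).some.hom) r hr,
      inv2_smul hr0 (hM (t' ≫ opn U))]
  choose c hc using hglob
  obtain ⟨r, hr, hrM⟩ := exists_smul_of_inv2 (hM g) (hM h) fun i => by rw [← hc i g, ← hc i h, hcon]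
  have hop : op (tr a g).left (hfix g).some.hom s = alg X r • op (tr a h).left (hfix h).some.hom s := by
    have h5 := (LinearMap.toMatrix B B).injective (hrM.trans (map_smul (LinearMap.toMatrix B B) r _).symm)
    exact LinearMap.congr_fun h5 s
  refine hy' ((mem_loc_iff hL).2 ((gen_op_iff _ (hfix h).some.hom hL s y).1 ?_))
  have h4 := (gen_op_iff _ (hfix g).some.hom hL s y).2 ((mem_loc_iff hL).1 hy)
  rw [hop, Amp.gm_smul, Amp.gen_smul_iff hL] at h4
  exact h4.2

end Groth.Agent.AmpleFix14
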