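import Groth.Agent.Lib.AmpleFix14.Main
import Groth.Agent.Lib.SpecialTorsor21.Torsor
import Groth.Agent.Lib.AmpleImm18.Over
import Groth.Prelude.Def_Pic13
import Groth.Prelude.Def_RelProj

/-!
# Connected groups fix classes when algebraically trivial modules are trivial
-/

set_option autoImplicit false
set_option linter.style.haveILetI false
set_option linter.unusedSectionVars false
set_option backward.isDefEq.respectTransparency false
set_option backward.isDefEq.respectTransparency.types false
universe u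

open CategoryTheory CategoryTheory.Limits MonoidalCategory CartesianMonoidalCategory MonObj AlgebraicGeometry

noncomputable section

namespace Groth.Agent.ActRestr14

open OrbitTop19 (tr)

variable {k : Type u} [Field k] {G H X : Over (Spec (CommRingCat.of k))} [GrpObj G] [GrpObj H]

/-- The restriction of an action along a homomorphism. -/
abbrev restr (r : H ⟶ G) [IsMonHom r] (a : AlgGrp.Action G X) : AlgGrp.Action H X :=
  SpecialTorsor21.restrictAction r a

theorem tr_restr (r : H ⟶ G) [IsMonHom r] (a : AlgGrp.Action G X) (g : 𝟙_ (Over (Spec (CommRingCat.of k))) ⟶ H) :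
    tr (restr r a) g = tr a (g ≫ r) := by
  show lift (toUnit X ≫ g) (𝟙 X) ≫ (r ▷ X) ≫ a.act = lift (toUnit X ≫ g ≫ r) (𝟙 X) ≫ a.act
  rw [lift_whiskerRight_assoc, Category.assoc]

theorem exists_ample (hX : RelProj.IsHProjective X.hom) : ∃ L : X.left.Modules, CohB1.IsAmple L := by
  obtain ⟨n, i, hi, -⟩ := hX
  haveI := hi
  exact ⟨_, Amp.isAmple_pullback_of_isAffineHom i (AmpleImm18.isAmple_twistOver n (Spec (CommRingCat.of k)))⟩

variable [LocallyOfFiniteType G.hom] [QuasiCompact G.hom] [ConnectedSpace ↥G.left]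

theorem nonempty_tr_iso
    (hPic : ∀ L : X.left.Modules, PicF.IsInvertible L → @Pic13.IsAlgEquivZero k _ X.left ⟨X.hom⟩ L →
      Nonempty (L ≅ Coh.structureModule X.left))
    (a : AlgGrp.Action G X) (g : 𝟙_ (Over (Spec (CommRingCat.of k))) ⟶ G) {L : X.left.Modules}
    (hL : PicF.IsInvertible L) : Nonempty ((Scheme.Modules.pullback (tr a g).left).obj L ≅ L) := by
  letI : X.left.Over (Spec (CommRingCat.of k)) := ⟨X.hom⟩
  obtain ⟨D, hD, ⟨e⟩⟩ := M2.exists_inverse hL
  let F : (X ⊗ G).left ⟶ X.left := (lift (snd X G) (fst X G) ≫ a.act).left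
  let P : (X ⊗ G).left ⟶ X.left := (fst X G).left
  let M : (X ⊗ G).left.Modules :=
    CohB1.tensorMod ((Scheme.Modules.pullback F).obj L) ((Scheme.Modules.pullback P).obj D)
  let s : (𝟙_ (Over (Spec (CommRingCat.of k))) ⟶ G) → (X ⟶ X ⊗ G) := fun t => lift (𝟙 X) (toUnit X ≫ t)
  have key : ∀ t : 𝟙_ (Over (Spec (CommRingCat.of k))) ⟶ G, Nonempty ((Scheme.Modules.pullback (s t).left).obj M ≅
      CohB1.tensorMod ((Scheme.Modules.pullback (tr a t).left).obj L) D) := by
    intro t
    have e1 : (s t).left ≫ F = (tr a t).left := by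
      rw [← Over.comp_left, ← Category.assoc, comp_lift, lift_snd, lift_fst]
      rfl
    have e2 : (s t).left ≫ P = 𝟙 X.left := by rw [← Over.comp_left, lift_fst, Over.id_left]
    exact ⟨M2.pullTensorIso _ _ _ ≪≫ M2.tensorIso
      ((Scheme.Modules.pullbackComp _ _).app L ≪≫ (Scheme.Modules.pullbackCongr e1).app L)
      ((Scheme.Modules.pullbackComp _ _).app D ≪≫ (Scheme.Modules.pullbackCongr e2).app D ≪≫
        (Scheme.Modules.pullbackId X.left).app D)⟩
  have hM' : PicF.IsInvertible (CohB1.tensorMod ((Scheme.Modules.pullback (tr a g).left).obj L) D) :=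
    M2.isInvertible_tensor (PicLoc.isInvertible_pullback _ hL) hD
  obtain ⟨τ⟩ := hPic _ hM' ⟨G.left, G.hom, inferInstance, inferInstance, inferInstance, M,
    M2.isInvertible_tensor (PicLoc.isInvertible_pullback _ hL) (PicLoc.isInvertible_pullback _ hD),
    g.left, η[G].left, Over.w g, Over.w η[G], by exact key g, by
      obtain ⟨i⟩ := key η[G]
      have e3 : (tr a η[G]).left = 𝟙 X.left := by
        rw [← Over.id_left]
        congr 1
        rw [tr, ← Hom.one_def]
        exact AlgGrpBasic19.act_one a (𝟙 X)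
      exact ⟨i ≪≫ M2.tensorIso ((Scheme.Modules.pullbackCongr e3).app L ≪≫ (Scheme.Modules.pullbackId X.left).app L)
        (Iso.refl D) ≪≫ e⟩⟩
  exact ⟨(M2.tensorRUnit _).symm ≪≫ M2.tensorIso (Iso.refl _) (e.symm ≪≫ M2.tensorComm L D) ≪≫
    (M2.tensorAssoc _ D L).symm ≪≫ M2.tensorIso τ (Iso.refl L) ≪≫ M2.tensorComm _ L ≪≫ M2.tensorRUnit L⟩

end Groth.Agent.ActRestr14
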